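import Cfsg.Agent.FS.N.Sw.D.D54_mg_m3
import Cfsg.Agent.Prune
set_option linter.all false
prune_inst 0x7f00000000000000000000000000000000000000000000000000000000000000000000000000000000000000000000000000000000000000000000000000000000000000000000000000000000000000003fffffffffffffffffffffffffffbeffbdffffffff

/-!
# Packed certificates for the checker of part B

The checker accepts any certificate, so these decoders need no proofs.
-/

set_option autoImplicit false

namespace Cfsg.Agent.FS.NB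

open Cfsg.Agent.FS.Pc

/-- `n` records of `s` bits -/
noncomputable def pkR (f : ℕ → ℕ → Ct → Ct) (s ms : ℕ) (rest : Ct) (n : ℕ) : ℕ → Ct :=
  Nat.rec (motive := fun _ => ℕ → Ct) (fun _ => rest)
    (fun _ ih V => Nat.rec rest (fun y _ => Nat.rec rest (fun q _ => f y q (ih (Nat.shiftRight V s)))
      (Nat.shiftRight (Nat.land V ms) 10)) (Nat.land V 1023)) n

/-- records of a fixed width -/
noncomputable def pkF (f : ℕ → ℕ → Ct → Ct) (s ms W : ℕ) (rest : Ct) : Ct :=
  pkR f s ms rest (Nat.land (Nat.shiftRight W 16) 255) (Nat.shiftRight W 24)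

/-- records of a given width -/
noncomputable def pkV (f : ℕ → ℕ → Ct → Ct) (W : ℕ) (rest : Ct) : Ct :=
  pkR f (Nat.land (Nat.shiftRight W 24) 4095) (msk (Nat.land (Nat.shiftRight W 24) 4095)) rest
    (Nat.land (Nat.shiftRight W 16) 255) (Nat.shiftRight W 36)

noncomputable def pkd (q : ℕ) : ℕ :=
  iF (Nat.ble (Nat.land q 15) 1) (Nat.add (Nat.succ (Nat.land q 15)) (Nat.shiftLeft (Nat.shiftRight q 4) 16))
    (Nat.add (Nat.add 3 (Nat.shiftLeft (Nat.pred (Nat.land q 15)) 48)) (Nat.shiftLeft (Nat.shiftRight q 4) 64))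

def pke (q : ℕ) : ℕ :=
  Nat.add (Nat.add (Nat.add 3 (Nat.shiftLeft (Nat.land q 15) 48)) (Nat.shiftLeft (Nat.land q 8176) 12))
    (Nat.add (Nat.shiftLeft (Nat.land q 4186112) 19) (Nat.shiftLeft (Nat.shiftRight q 22) 64))

noncomputable def k0 : ℕ → Ct → Ct := pkF (fun y q c => .kil y 0 (pkd q) c) 24 16777215
noncomputable def k1 : ℕ → Ct → Ct := pkF (fun y q c => .kil y 1 (pkd q) c) 24 16777215
noncomputable def l0 : ℕ → Ct → Ct := pkF (fun y q c => .cons y 0 (.lf (pkd q)) c) 24 16777215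
noncomputable def l1 : ℕ → Ct → Ct := pkF (fun y q c => .cons y 1 (.lf (pkd q)) c) 24 16777215
noncomputable def e0 : ℕ → Ct → Ct := pkF (fun y q c => .cons y 0 (.lf (pke q)) c) 44 17592186044415
noncomputable def e1 : ℕ → Ct → Ct := pkF (fun y q c => .cons y 1 (.lf (pke q)) c) 44 17592186044415
noncomputable def u0 : ℕ → Ct → Ct := pkV fun y q c => .cons y 0 (.ur (Nat.shiftRight q 16)) c
noncomputable def u1 : ℕ → Ct → Ct := pkV fun y q c => .cons y 1 (.ur (Nat.shiftRight q 16)) c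
noncomputable def m0 : ℕ → Ct → Ct := pkV fun y q c => .cons y 0 (.mc q) c
noncomputable def m1 : ℕ → Ct → Ct := pkV fun y q c => .cons y 1 (.mc q) c
noncomputable def v0 (T K : ℕ) : ℕ → Ct → Ct :=
  pkV fun y q c => .cons y 0 (.v1 T K (Nat.shiftRight q 24) (Nat.land (Nat.shiftRight q 16) 255)) c
noncomputable def v1 (T K : ℕ) : ℕ → Ct → Ct :=
  pkV fun y q c => .cons y 1 (.v1 T K (Nat.shiftRight q 24) (Nat.land (Nat.shiftRight q 16) 255)) c

/-- a branching child -/
noncomputable def cB (h gv sy : ℕ) (kids rest : Ct) : Ct :=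
  Nat.rec rest (fun y _ => Nat.rec rest (fun x _ => .cons y (Nat.land (Nat.shiftRight h 10) 1) (.br x gv sy kids) rest)
    (Nat.shiftRight h 11)) (Nat.land h 1023)

/-- the two halves of a vector with cells of `w` bits, `h = w / 2` -/
def pkz (M h w W : ℕ) : ℕ :=
  Nat.add (Nat.land (Nat.shiftRight W 32) M)
    (Nat.shiftLeft (Nat.land (Nat.shiftRight W (Nat.add 32 h)) M) (Nat.mul w (Nat.land (Nat.shiftRight W 16) 4095)))

def sp1 (O Z : ℕ) : ℕ := Nat.add (Nat.land Z (Nat.mul O 511)) (Nat.shiftLeft (Nat.land Z (Nat.mul O 65024)) 7)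

/-- pairs of cells from `9 + 7` bits -/
noncomputable def sp (W : ℕ) : ℕ :=
  Nat.rec 0 (fun k _ => sp1 (ones 32 k) (pkz (Nat.mul (ones 32 k) 65535) 16 32 W)) (Nat.land (Nat.shiftRight W 28) 15)

def sg1 (O Z : ℕ) : ℕ :=
  Nat.add (Nat.add (Nat.land Z (Nat.mul O 511)) (Nat.shiftLeft (Nat.land Z (Nat.mul O 261632)) 7))
    (Nat.shiftLeft (Nat.land Z (Nat.mul O 4294705152)) 14)

/-- codes of automorphisms from `9 + 9 + 14` bits -/
noncomputable def sg (W : ℕ) : ℕ :=
  Nat.rec 0 (fun k _ => sg1 (ones 64 k) (pkz (Nat.mul (ones 64 k) 4294967295) 32 64 W)) (Nat.land (Nat.shiftRight W 28) 15)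

/-- cells of `16` bits from records of `9 + 9` bits (place, value) -/
noncomputable def za1 (S k : ℕ) : ℕ := -- dce:keep
  Nat.rec (nat_lit 0) (fun j A => Nat.xor A (Nat.shiftLeft
    (Nat.land (Nat.shiftRight S (Nat.add (Nat.mul (nat_lit 18) j) (nat_lit 9))) (nat_lit 511))
    (Nat.shiftLeft (Nat.land (Nat.shiftRight S (Nat.mul (nat_lit 18) j)) (nat_lit 511)) (nat_lit 4)))) k

/-- the table of values of a polynomial map over the field of two elements -/
noncomputable def za (W : ℕ) : ℕ := -- dce:keep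
  Nat.rec (za1 (Nat.shiftRight W (nat_lit 16)) (Nat.land (Nat.shiftRight W (nat_lit 4)) (nat_lit 4095)))
    (fun i X => Nat.xor X (Nat.shiftLeft (Nat.land X (Nat.div
      (Nat.sub (Nat.shiftLeft (nat_lit 1) (Nat.shiftLeft (nat_lit 16) (Nat.land W (nat_lit 15)))) (nat_lit 1))
      (Nat.add (Nat.shiftLeft (nat_lit 1) (Nat.shiftLeft (nat_lit 16) i)) (nat_lit 1)))) (Nat.shiftLeft (nat_lit 16) i)))
    (Nat.land W (nat_lit 15))

/-- cells of `16` bits from records of `8 + 16` bits (distance, value) -/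
noncomputable def zd1 (S k : ℕ) : ℕ := -- dce:keep
  Nat.rec (nat_lit 0) (fun j A => Nat.xor
    (Nat.shiftLeft A (Nat.shiftLeft (Nat.land (Nat.shiftRight S (Nat.mul (nat_lit 24) j)) (nat_lit 255)) (nat_lit 4)))
    (Nat.land (Nat.shiftRight S (Nat.add (Nat.mul (nat_lit 24) j) (nat_lit 8))) (nat_lit 65535))) k

/-- the cells from their differences -/
noncomputable def zd (W : ℕ) : ℕ := -- dce:keep
  Nat.rec (zd1 (Nat.shiftRight W (nat_lit 12)) (Nat.land W (nat_lit 4095)))
    (fun i X => Nat.xor X (Nat.shiftRight X (Nat.shiftLeft (nat_lit 32) i))) (nat_lit 10)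

/-- the numeral `f n` -/
scoped macro:max "nv% " f:ident n:num : term =>
  `((by refine (?f : ($f (nat_lit $n) = ?x → Nat)) ?h; (case h => (conv => lhs; whnf)); intro _; exact OfNat.ofNat ?x : Nat))

end Cfsg.Agent.FS.NB
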